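import Mathlib
import Groth.Prelude.Def_RatFun

/-!
# The ring of rational functions: representatives, comparison with stalks at maximal points
-/

set_option autoImplicit false

universe u

open AlgebraicGeometry CategoryTheory TopologicalSpace Opposite

namespace Groth.Agent.RatFunLib

variable (X : Scheme.{u})

instance isCofiltered : IsCofiltered (RatFun.IsDenseOpen X).FullSubcategory where
  cone_objs U V := ⟨⟨U.obj ⊓ V.obj, U.property.inter_of_isOpen_left V.property U.obj.isOpen⟩,
    ObjectProperty.homMk (homOfLE inf_le_left), ObjectProperty.homMk (homOfLE inf_le_right), trivial⟩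
  cone_maps U V f g := ⟨U, 𝟙 _, by
    apply ObjectProperty.hom_ext
    apply Subsingleton.elim⟩
  nonempty := ⟨⟨⊤, by show Dense ((⊤ : X.Opens) : Set X); rw [Opens.coe_top]; exact dense_univ⟩⟩

variable {X}

theorem toRing_res {V W : X.Opens} (hV : Dense (V : Set X)) (hW : Dense (W : Set X)) (h : W ≤ V)
    (s : Γ(X, V)) :
    RatFun.toRing X W hW (X.presheaf.map (homOfLE h).op s) = RatFun.toRing X V hV s := by
  let f : (⟨W, hW⟩ : (RatFun.IsDenseOpen X).FullSubcategory) ⟶ ⟨V, hV⟩ :=
    ObjectProperty.homMk (homOfLE h)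
  exact ConcreteCategory.congr_hom (Limits.colimit.w (RatFun.sectionsOnDense X) f.op) s

theorem exists_rep (r : RatFun.ring X) :
    ∃ (V : X.Opens) (hV : Dense (V : Set X)) (s : Γ(X, V)), RatFun.toRing X V hV s = r := by
  obtain ⟨⟨⟨V, hV⟩⟩, s, hs⟩ := Limits.Concrete.colimit_exists_rep (RatFun.sectionsOnDense X) r
  exact ⟨V, hV, s, hs⟩

theorem toRing_eq_zero {V : X.Opens} (hV : Dense (V : Set X)) {s : Γ(X, V)}
    (h : RatFun.toRing X V hV s = 0) :
    ∃ (W : X.Opens) (hWV : W ≤ V), Dense (W : Set X) ∧ X.presheaf.map (homOfLE hWV).op s = 0 := by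
  have h' : RatFun.toRing X V hV s = RatFun.toRing X V hV 0 := by rw [h, map_zero]
  obtain ⟨⟨⟨W, hW⟩⟩, f, g, e⟩ := (Limits.Concrete.colimit_rep_eq_iff_exists
    (RatFun.sectionsOnDense X) _ _).1 h'
  refine ⟨W, f.unop.hom.le, hW, ?_⟩
  have : g = f := by
    apply Quiver.Hom.unop_inj; apply ObjectProperty.hom_ext; apply Subsingleton.elim
  rw [this] at e
  exact e.trans (map_zero _)

theorem eq_zero_of_res_eq_zero [IsReduced X] {V W : X.Opens} (hWV : W ≤ V)
    (hW : Dense (W : Set X)) {s : Γ(X, V)} (h : X.presheaf.map (homOfLE hWV).op s = 0) : s = 0 := by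
  apply eq_zero_of_basicOpen_eq_bot
  have h1 := X.basicOpen_res s (homOfLE hWV).op
  rw [h, Scheme.basicOpen_zero] at h1
  refine Opens.ext (Set.eq_empty_iff_forall_notMem.2 fun x hx => ?_)
  obtain ⟨y, hy, hyW⟩ := hW.inter_open_nonempty _ (X.basicOpen s).isOpen ⟨x, hx⟩
  have : y ∈ (W ⊓ X.basicOpen s : X.Opens) := ⟨hyW, hy⟩
  rw [← h1] at this
  exact this

section Points

variable {ι : Type u} [Finite ι] (η : ι → X)
  (hmem : ∀ V : X.Opens, Dense (V : Set X) → ∀ i, η i ∈ V)
  (hdense : ∀ V : X.Opens, (∀ i, η i ∈ V) → Dense (V : Set X))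
  (U : ι → X.Opens) (hU : ∀ i, η i ∈ U i) (hdisj : ∀ i j, i ≠ j → U i ⊓ U j = ⊥)

/-- Germs at the given points, as a cocone. -/
noncomputable def germsCocone : Limits.Cocone (RatFun.sectionsOnDense X) where
  pt := CommRingCat.of (∀ i, X.presheaf.stalk (η i))
  ι :=
    { app := fun V => CommRingCat.ofHom (RingHom.pi fun i =>
        (X.presheaf.germ V.unop.obj (η i) (hmem _ V.unop.property i)).hom)
      naturality := fun V W f => by
        apply CommRingCat.hom_ext
        apply RingHom.ext
        intro s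
        funext i
        exact X.presheaf.germ_res_apply f.unop.hom (η i) _ s }

/-- Germs at the given points. -/
noncomputable def germsHom : RatFun.ring X →+* ∀ i, X.presheaf.stalk (η i) :=
  (Limits.colimit.desc (RatFun.sectionsOnDense X) (germsCocone η hmem)).hom

theorem germsHom_toRing (V : X.Opens) (hV : Dense (V : Set X)) (s : Γ(X, V)) (i : ι) :
    germsHom η hmem (RatFun.toRing X V hV s) i = X.presheaf.germ V (η i) (hmem V hV i) s := by
  have h := ConcreteCategory.congr_hom
    (Limits.colimit.ι_desc (germsCocone η hmem) (op (⟨V, hV⟩ : (RatFun.IsDenseOpen X).FullSubcategory))) s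
  exact congrFun h i

include hdense hU hdisj in
theorem germsHom_bijective : Function.Bijective (germsHom η hmem) := by
  refine ⟨(injective_iff_map_eq_zero _).2 fun r hr => ?_, fun t => ?_⟩
  · obtain ⟨V, hV, s, rfl⟩ := exists_rep r
    have h : ∀ i, ∃ (W : X.Opens) (hWV : W ≤ V), η i ∈ W ∧ X.presheaf.map (homOfLE hWV).op s = 0 := by
      intro i
      have e := congrFun hr i
      rw [germsHom_toRing] at e
      obtain ⟨W, hW, iU, iV, eW⟩ := X.presheaf.germ_eq (η i) (hmem V hV i) (hmem V hV i) s 0
        (by rw [map_zero]; exact e)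
      exact ⟨W, iU.le, hW, by rw [map_zero] at eW; exact eW⟩
    choose W hWV hW hs using h
    have hle : iSup W ≤ V := iSup_le hWV
    have hd : Dense ((iSup W : X.Opens) : Set X) := hdense _ fun i => le_iSup W i (hW i)
    rw [← toRing_res hV hd hle s]
    convert map_zero (RatFun.toRing X (iSup W) hd).hom using 2
    refine X.sheaf.eq_of_locally_eq' W (iSup W) (fun i => homOfLE (le_iSup W i)) le_rfl _ _ fun i => ?_
    show X.presheaf.map _ (X.presheaf.map _ s) = X.presheaf.map _ 0
    rw [← ConcreteCategory.comp_apply, ← Functor.map_comp, map_zero]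
    exact hs i
  · choose V hV s hs using fun i => X.presheaf.exists_germ_eq (t i)
    let W : ι → X.Opens := fun i => U i ⊓ V i
    have hd : Dense ((iSup W : X.Opens) : Set X) := hdense _ fun i => le_iSup W i ⟨hU i, hV i⟩
    let sf : ∀ i, Γ(X, W i) := fun i => X.presheaf.map (homOfLE (inf_le_right : W i ≤ V i)).op (s i)
    have hcompat : TopCat.Presheaf.IsCompatible X.sheaf.1 W sf := by
      intro i j
      rcases eq_or_ne i j with rfl | hij
      · rfl
      · have hbot : W i ⊓ W j = ⊥ := le_bot_iff.1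
          ((inf_le_inf inf_le_left inf_le_left).trans (hdisj i j hij).le)
        have hss : Subsingleton Γ(X, W i ⊓ W j) := by rw [hbot]; infer_instance
        exact hss.elim _ _
    obtain ⟨g, hg, -⟩ := X.sheaf.existsUnique_gluing W sf hcompat
    refine ⟨RatFun.toRing X (iSup W) hd g, funext fun i => ?_⟩
    rw [germsHom_toRing, ← hs i]
    have h1 := X.presheaf.germ_res_apply (Opens.leSupr W i) (η i) ⟨hU i, hV i⟩ g
    have h2 := X.presheaf.germ_res_apply (homOfLE (inf_le_right : W i ≤ V i)) (η i) ⟨hU i, hV i⟩ (s i)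
    have hg' : X.presheaf.map (Opens.leSupr W i).op g = sf i := hg i
    exact h1.symm.trans ((congrArg _ hg').trans h2)

include hdense hU hdisj hmem in
theorem nonempty_iso : Nonempty (RatFun.ring X ≅ CommRingCat.of (∀ i, X.presheaf.stalk (η i))) :=
  ⟨(RingEquiv.ofBijective (germsHom η hmem) (germsHom_bijective η hmem hdense U hU hdisj)).toCommRingCatIso⟩

end Points

/-- The stalk at a point without proper generizations. -/
theorem krullDimLE_zero_stalk {x : X} (hx : ∀ y : X, y ⤳ x → y = x) :
    Ring.KrullDimLE 0 (X.presheaf.stalk x) := by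
  rw [Ring.krullDimLE_zero_iff]
  intro I hI
  obtain ⟨m, hm, hIm⟩ := Ideal.exists_le_maximal I hI.ne_top
  have h : ∀ q : PrimeSpectrum (X.presheaf.stalk x), X.fromSpecStalk x q = x := fun q =>
    hx _ (by
      have : X.fromSpecStalk x q ∈ Set.range (X.fromSpecStalk x) := ⟨q, rfl⟩
      rw [Scheme.range_fromSpecStalk] at this
      exact this)
  have : (⟨I, hI⟩ : PrimeSpectrum (X.presheaf.stalk x)) = ⟨m, hm.isPrime⟩ :=
    (X.fromSpecStalk x).isEmbedding.injective ((h _).trans (h _).symm)
  rwa [show I = m from congrArg PrimeSpectrum.asIdeal this]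

theorem genericPoint_component_max {Z : Set X} (hZ : Z ∈ irreducibleComponents (X : Type u)) {y : X}
    (hy : y ⤳ hZ.1.genericPoint) : y = hZ.1.genericPoint := by
  have hc := isClosed_of_mem_irreducibleComponents Z hZ
  have h1 := hZ.1.closure_genericPoint hc
  have hsub : Z ⊆ closure {y} := h1 ▸ closure_minimal (Set.singleton_subset_iff.2 hy.mem_closure) isClosed_closure
  have h2 : closure {y} ⊆ Z := hZ.2 (isIrreducible_singleton.closure) hsub
  exact (IsGenericPoint.eq (show IsGenericPoint y Z from Set.Subset.antisymm h2 hsub) h1)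

end Groth.Agent.RatFunLib
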